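import Groth.Agent.Lib.CubicForm.Eckardt
import Mathlib.LinearAlgebra.Dimension.Free
import Mathlib.RingTheory.Ideal.Span
import Mathlib.RingTheory.Ideal.Quotient.Operations

/-!
# Binary forms of degree two and three, adapted bases of a tangent plane, forms vanishing on a hyperplane
-/

set_option autoImplicit false
set_option linter.all false

universe u

open MvPolynomial Module

namespace GrothLib.CubicTangent

variable {K : Type u} [Field K]

/-- A quadratic binary form over an algebraically closed field splits. -/
theorem exists_quad_factor [IsAlgClosed K] (A B C : K) :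
    ∃ p q r s : K, ∀ t u : K, A * t ^ 2 + B * (t * u) + C * u ^ 2 = (p * t + q * u) * (r * t + s * u) := by
  by_cases hA : A = 0
  · exact ⟨0, 1, B, C, fun t u => by rw [hA]; ring⟩
  obtain ⟨z, hz⟩ := IsAlgClosed.exists_root
    (Polynomial.C A * Polynomial.X ^ 2 + Polynomial.C B * Polynomial.X + Polynomial.C C)
    (by rw [Polynomial.degree_quadratic hA]; decide)
  simp only [Polynomial.IsRoot, Polynomial.eval_add, Polynomial.eval_mul, Polynomial.eval_pow,
    Polynomial.eval_C, Polynomial.eval_X] at hz
  exact ⟨1, -z, A, B + A * z, fun t u => by linear_combination u ^ 2 * hz⟩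

/-- A cubic binary form over an algebraically closed field splits. -/
theorem exists_cubic_factor [IsAlgClosed K] (A B C D : K) :
    ∃ p q r s v w : K, ∀ t u : K, A * t ^ 3 + B * (t ^ 2 * u) + C * (t * u ^ 2) + D * u ^ 3 =
      (p * t + q * u) * (r * t + s * u) * (v * t + w * u) := by
  by_cases hA : A = 0
  · obtain ⟨r, s, v, w, h⟩ := exists_quad_factor B C D
    refine ⟨0, 1, r, s, v, w, fun t u => ?_⟩
    rw [hA]
    linear_combination u * h t u
  obtain ⟨z, hz⟩ := IsAlgClosed.exists_root
    (Polynomial.C A * Polynomial.X ^ 3 + Polynomial.C B * Polynomial.X ^ 2 + Polynomial.C C * Polynomial.X +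
      Polynomial.C D) (by rw [Polynomial.degree_cubic hA]; decide)
  simp only [Polynomial.IsRoot, Polynomial.eval_add, Polynomial.eval_mul, Polynomial.eval_pow,
    Polynomial.eval_C, Polynomial.eval_X] at hz
  obtain ⟨r, s, v, w, h⟩ := exists_quad_factor A (B + A * z) (C + z * (B + A * z))
  exact ⟨1, -z, r, s, v, w, fun t u => by linear_combination (t - z * u) * h t u + u ^ 3 * hz⟩

/-- A kernel vector of a nonzero binary linear form spans its zero locus. -/
theorem exists_smul_of_eq_zero {p q t u : K} (hpq : p ≠ 0 ∨ q ≠ 0) (h : p * t + q * u = 0) :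
    ∃ l : K, t = l * q ∧ u = l * -p := by
  rcases hpq with hp | hq
  · exact ⟨-u / p, by field_simp; linear_combination h, by field_simp⟩
  · exact ⟨t / q, by field_simp, by field_simp; linear_combination h⟩

/-- A basis adapted to a hyperplane of `K^4` through a given vector. -/
theorem exists_basis (g : (Fin 4 → K) →ₗ[K] K) (hg : g ≠ 0) {a : Fin 4 → K} (ha : a ≠ 0) (hga : g a = 0) :
    ∃ w : Basis (Fin 4) K (Fin 4 → K), w 0 = a ∧ g (w 1) = 0 ∧ g (w 2) = 0 ∧ g (w 3) = 1 := by
  obtain ⟨e₀, he₀⟩ : ∃ e, g e ≠ 0 := by
    by_contra! h; exact hg (LinearMap.ext h)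
  set e := (g e₀)⁻¹ • e₀ with he
  have hge : g e = 1 := by rw [he, map_smul, smul_eq_mul, inv_mul_cancel₀ he₀]
  set H := LinearMap.ker g
  have hH : finrank K ↥H = 3 := by
    have h := LinearMap.finrank_range_add_finrank_ker g
    have hs : Function.Surjective g := fun r => ⟨r • e, by rw [map_smul, hge, smul_eq_mul, mul_one]⟩
    rw [LinearMap.range_eq_top.2 hs, finrank_top, Module.finrank_self, Module.finrank_fin_fun] at h
    linarith
  obtain ⟨b, hb, hab⟩ := CubicForm.exists_mem_notMem_span_singleton (U := H) (by omega) a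
  obtain ⟨c, hc, habc⟩ : ∃ c ∈ H, c ∉ Submodule.span K ({a, b} : Set (Fin 4 → K)) := by
    by_contra! h
    have h1 := Submodule.finrank_mono (s := H) (t := Submodule.span K ({a, b} : Set (Fin 4 → K))) h
    rw [hH, CubicForm.finrank_span_pair ha hab] at h1
    omega
  have hli : LinearIndependent K ![a, b, c, e] := by
    rw [Fintype.linearIndependent_iff]
    intro x hx
    simp [Fin.sum_univ_four] at hx
    have h3 : x 3 = 0 := by
      have := congrArg g hx
      simpa [map_add, map_smul, hga, LinearMap.mem_ker.1 hb, LinearMap.mem_ker.1 hc, hge] using this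
    rw [h3, zero_smul, add_zero] at hx
    have h2 : x 2 = 0 := by
      by_contra h
      apply habc
      refine Submodule.mem_span_pair.2 ⟨-(x 2)⁻¹ * x 0, -(x 2)⁻¹ * x 1, ?_⟩
      have := congrArg (fun v => (x 2)⁻¹ • v) hx
      simp only [smul_add, smul_smul, smul_zero, inv_mul_cancel₀ h, one_smul] at this
      rw [eq_neg_of_add_eq_zero_right this]
      module
    rw [h2, zero_smul, add_zero] at hx
    have h1 : x 1 = 0 := by
      by_contra h
      apply hab
      refine Submodule.mem_span_singleton.2 ⟨-(x 1)⁻¹ * x 0, ?_⟩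
      have := congrArg (fun v => (x 1)⁻¹ • v) hx
      simp only [smul_add, smul_smul, smul_zero, inv_mul_cancel₀ h, one_smul] at this
      rw [eq_neg_of_add_eq_zero_right this]
      module
    rw [h1, zero_smul, add_zero, smul_eq_zero] at hx
    intro i
    fin_cases i
    · exact hx.resolve_right ha
    · exact h1
    · exact h2
    · exact h3
  exact ⟨basisOfLinearIndependentOfCardEqFinrank hli (by simp),
    by simp, by simpa using LinearMap.mem_ker.1 hb, by simpa using LinearMap.mem_ker.1 hc, by simpa using hge⟩

/-- A polynomial vanishing on the hyperplane of a nonzero linear form is divisible by it. -/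
theorem mem_span_of_eval_eq_zero [Infinite K] {σ : Type} [Fintype σ] [DecidableEq σ] (c : σ → K) {j : σ}
    (hj : c j ≠ 0) (p : MvPolynomial σ K)
    (h : ∀ x : σ → K, eval x (∑ i, C (c i) * X i) = 0 → eval x p = 0) :
    p ∈ Ideal.span {∑ i, C (c i) * X i} := by
  set l : MvPolynomial σ K := ∑ i, C (c i) * X i with hl
  let s : σ → MvPolynomial σ K := fun i => if i = j then X i - C (c j)⁻¹ * l else X i
  have h1 : (Ideal.Quotient.mkₐ K (Ideal.span {l})).comp (aeval s) = Ideal.Quotient.mkₐ K (Ideal.span {l}) := by
    ext i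
    simp only [AlgHom.comp_apply, aeval_X, s]
    split_ifs
    · rw [Ideal.Quotient.mkₐ_eq_mk, Ideal.Quotient.eq]
      simpa using Ideal.mul_mem_left _ (C (c j)⁻¹) (Ideal.mem_span_singleton_self l)
    · rfl
  have hs : aeval s p = 0 := by
    apply MvPolynomial.funext
    intro x
    rw [map_zero]
    set y : σ → K := fun i => eval x (s i)
    have hy : eval x (aeval s p) = eval y p := by
      have e : (MvPolynomial.aeval x : MvPolynomial σ K →ₐ[K] K).comp (aeval s) = aeval y :=
        MvPolynomial.algHom_ext fun i => by simp [y, MvPolynomial.aeval_eq_eval]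
      simpa [MvPolynomial.aeval_eq_eval] using AlgHom.congr_fun e p
    rw [hy]
    refine h y ?_
    rw [hl]
    simp only [map_sum, map_mul, eval_C, eval_X]
    have : ∀ i, c i * y i = c i * x i - if i = j then eval x l else 0 := by
      intro i
      simp only [y, s]
      split_ifs with hi
      · subst hi
        simp [mul_sub, mul_inv_cancel_left₀ hj]
      · simp
    simp [this, Finset.sum_sub_distrib, hl, map_sum]
  have h2 := AlgHom.congr_fun h1 p
  rw [AlgHom.comp_apply, hs, map_zero, Ideal.Quotient.mkₐ_eq_mk] at h2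
  exact Ideal.Quotient.eq_zero_iff_mem.1 h2.symm

end GrothLib.CubicTangent
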